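import Cfsg.Agent.Lib.Alternating.ThreeCycle

/-!
# Automorphisms of `A_n`, `n ≠ 6`

* `autEquiv` : `S_n ≃* Aut A_n` for `4 ≤ n`, `n ≠ 6`
* `exists_conj_eq` : every automorphism of `A_n` is conjugation by a permutation
-/

set_option linter.unusedSimpArgs false

namespace Cfsg.Agent.Lib.Alternating

open Equiv Equiv.Perm
open scoped Nat

variable {α : Type*} [Fintype α] [DecidableEq α]

theorem three_pow_mul_factorial_lt : ∀ {j : ℕ}, 2 ≤ j → 3 ^ j * (j + 1)! < (3 * j)! := by
  intro j hj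
  induction j, hj using Nat.le_induction with
  | base => simp [Nat.factorial_succ]
  | succ j hj ih =>
    have h1 : (3 * (j + 1))! = (3 * j + 3) * ((3 * j + 2) * ((3 * j + 1) * (3 * j)!)) := by
      rw [show 3 * (j + 1) = (3 * j + 2) + 1 by ring, Nat.factorial_succ,
        show 3 * j + 2 = (3 * j + 1) + 1 by ring, Nat.factorial_succ, Nat.factorial_succ]
    have h2 : 3 ^ (j + 1) * (j + 1 + 1)! = 3 * (j + 2) * (3 ^ j * (j + 1)!) := by
      rw [Nat.factorial_succ (j + 1), pow_succ]; ring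
    rw [h1, h2]
    have h3 : 3 * (j + 2) ≤ (3 * j + 3) * ((3 * j + 2) * (3 * j + 1)) := by
      calc 3 * (j + 2) ≤ (3 * j + 3) * (2 * 1) := by omega
        _ ≤ _ := Nat.mul_le_mul le_rfl (Nat.mul_le_mul (by omega) (by omega))
    calc 3 * (j + 2) * (3 ^ j * (j + 1)!) ≤
          (3 * j + 3) * ((3 * j + 2) * (3 * j + 1)) * (3 ^ j * (j + 1)!) :=
            Nat.mul_le_mul_right _ h3
      _ < (3 * j + 3) * ((3 * j + 2) * (3 * j + 1)) * (3 * j)! :=
            Nat.mul_lt_mul_of_pos_left ih (by positivity)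
      _ = _ := by ring

/-- The class of 3-cycles has a size different from the other classes of elements of order 3. -/
theorem threeCycle_numeric {n k : ℕ} (hk : 2 ≤ k) (hkn : 3 * k ≤ n) (h6 : n ≠ 6) :
    (n - 3 * k)! * 3 ^ k * k ! < (n - 3)! * 3 := by
  obtain ⟨j, rfl⟩ : ∃ j, k = j + 1 := ⟨k - 1, by omega⟩
  obtain ⟨r, rfl⟩ : ∃ r, n = r + 3 * (j + 1) := ⟨n - 3 * (j + 1), by omega⟩
  rw [Nat.add_sub_cancel, show r + 3 * (j + 1) - 3 = r + 3 * j by omega, pow_succ]
  rcases Nat.lt_or_ge j 2 with hj | hj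
  · obtain rfl : j = 1 := by omega
    have h1 : (r + 3 * 1)! = (r + 3) * ((r + 2) * ((r + 1) * r !)) := by
      simp [Nat.factorial_succ]
    rw [h1, show (1 + 1)! = 2 from rfl]
    have h2 : 6 < (r + 3) * ((r + 2) * (r + 1)) := by
      have : 1 ≤ r := by omega
      calc 6 < 4 * (3 * 2) := by norm_num
        _ ≤ _ := Nat.mul_le_mul (by omega) (Nat.mul_le_mul (by omega) (by omega))
    have h3 := Nat.mul_lt_mul_of_pos_right h2 (Nat.mul_pos (Nat.factorial_pos r) (show 0 < 3 by norm_num))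
    calc r ! * (3 ^ 1 * 3) * 2 = 6 * (r ! * 3) := by ring
      _ < _ := h3
      _ = _ := by ring
  · have hd : r ! * (3 * j)! ≤ (r + 3 * j)! :=
      Nat.le_of_dvd (Nat.factorial_pos _) (Nat.factorial_mul_factorial_dvd_factorial_add r (3 * j))
    calc r ! * (3 ^ j * 3) * (j + 1)! = r ! * (3 ^ j * (j + 1)!) * 3 := by ring
      _ < r ! * (3 * j)! * 3 := Nat.mul_lt_mul_of_pos_right
            (Nat.mul_lt_mul_of_pos_left (three_pow_mul_factorial_lt hj) (Nat.factorial_pos r))
            (by norm_num)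
      _ ≤ (r + 3 * j)! * 3 := Nat.mul_le_mul_right _ hd

theorem centralizer_card_replicate {g : Perm α} {k : ℕ} (hk : 1 ≤ k)
    (hg : g.cycleType = Multiset.replicate k 3) :
    Nat.card (Subgroup.centralizer {g}) = (Fintype.card α - 3 * k)! * 3 ^ k * k ! := by
  rw [nat_card_centralizer, hg, Multiset.sum_replicate, Multiset.prod_replicate,
    Multiset.toFinset_replicate, if_neg (by omega)]
  simp [mul_comm]

theorem centralizer_map_mulEquiv_card {G G' : Type*} [Group G] [Group G'] (ψ : G ≃* G') (x : G) :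
    Nat.card (Subgroup.centralizer {x}) = Nat.card (Subgroup.centralizer {ψ x}) := by
  refine Nat.card_congr (ψ.toEquiv.subtypeEquiv fun g => ?_)
  change g ∈ Subgroup.centralizer {x} ↔ ψ g ∈ Subgroup.centralizer {ψ x}
  simp only [Subgroup.mem_centralizer_singleton_iff]
  rw [← map_mul, ← map_mul]
  exact ψ.injective.eq_iff.symm

/-- For `n ≠ 6`, automorphisms of `A_n` preserve 3-cycles. -/
theorem isThreeCycle_map (h6 : Fintype.card α ≠ 6)
    (ψ : MulAut (alternatingGroup α)) {x : alternatingGroup α}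
    (hx : IsThreeCycle (x : Perm α)) : IsThreeCycle (ψ x : Perm α) := by
  have hord : orderOf (ψ x : Perm α) = 3 := by
    rw [Subgroup.orderOf_coe, MulEquiv.orderOf_eq, ← Subgroup.orderOf_coe, hx.orderOf]
  obtain ⟨k, hk⟩ := cycleType_prime_order (σ := (ψ x : Perm α)) (hord ▸ Nat.prime_three)
  rw [hord] at hk
  rcases Nat.eq_zero_or_pos k with rfl | hkpos
  · simpa [IsThreeCycle] using hk
  exfalso
  have hkn : 3 * (k + 1) ≤ Fintype.card α := by
    have := sum_cycleType_le (ψ x : Perm α)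
    rw [hk] at this; simp at this; omega
  have hx1 : ¬ Subgroup.centralizer {(x : Perm α)} ≤ alternatingGroup α := fun h => by
    have := (centralizer_le_alternating_iff.1 h).2.1
    rw [hx.cycleType] at this; simp at this; omega
  have hy1 : ¬ Subgroup.centralizer {(ψ x : Perm α)} ≤ alternatingGroup α := fun h => by
    have := (centralizer_le_alternating_iff.1 h).2.2 3
    rw [hk, Multiset.count_replicate_self] at this
    omega
  have e1 := two_mul_card_centralizer_alt x hx1
  have e2 := two_mul_card_centralizer_alt (ψ x) hy1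
  rw [← centralizer_map_mulEquiv_card ψ x, e1, centralizer_card_replicate (Nat.succ_pos k) hk,
    centralizer_card_replicate (k := 1) le_rfl (by rw [hx.cycleType]; rfl)] at e2
  have := threeCycle_numeric (n := Fintype.card α) (k := k + 1) (by omega) hkn h6
  simp only [mul_one, pow_one, Nat.factorial_one, Nat.succ_eq_add_one] at e2
  omega

omit [Fintype α] in
theorem tri_conj (σ : Perm α) (a b c : α) : σ * tri a b c * σ⁻¹ = tri (σ a) (σ b) (σ c) := by
  have h : ∀ x y, σ * swap x y * σ⁻¹ = swap (σ x) (σ y) := fun x y => by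
    rw [Equiv.mul_swap_eq_swap_mul, mul_inv_cancel_right]
  simp only [tri]
  rw [← h, ← h]; group

omit [Fintype α] in
theorem tri_mul_tri_sq {p q i j : α} (hpq : p ≠ q) (hpi : p ≠ i) (hqi : q ≠ i) (hpj : p ≠ j)
    (hqj : q ≠ j) (hij : i ≠ j) :
    tri p q i * tri p q j * (tri p q i * tri p q j) = 1 ∧ tri p q i * tri p q j ≠ 1 := by
  constructor
  · ext x
    simp only [Perm.mul_apply, Perm.one_apply]
    by_cases h1 : x = p
    · simp [h1, tri_apply_left hpq hqj, tri_apply_mid, tri_apply_right hpi hqi,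
        tri_apply_of_ne (Ne.symm hpi) (Ne.symm hqi) hij, tri_apply_left hpq hqi,
        tri_apply_right hpj hqj, tri_apply_of_ne (Ne.symm hpj) (Ne.symm hqj) (Ne.symm hij)]
    by_cases h2 : x = q
    · simp [h2, tri_apply_left hpq hqj, tri_apply_mid, tri_apply_right hpi hqi,
        tri_apply_of_ne (Ne.symm hpi) (Ne.symm hqi) hij, tri_apply_left hpq hqi,
        tri_apply_right hpj hqj, tri_apply_of_ne (Ne.symm hpj) (Ne.symm hqj) (Ne.symm hij)]
    by_cases h3 : x = i
    · simp [h3, tri_apply_left hpq hqj, tri_apply_mid, tri_apply_right hpi hqi,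
        tri_apply_of_ne (Ne.symm hpi) (Ne.symm hqi) hij, tri_apply_left hpq hqi,
        tri_apply_right hpj hqj, tri_apply_of_ne (Ne.symm hpj) (Ne.symm hqj) (Ne.symm hij)]
    by_cases h4 : x = j
    · simp [h4, tri_apply_left hpq hqj, tri_apply_mid, tri_apply_right hpi hqi,
        tri_apply_of_ne (Ne.symm hpi) (Ne.symm hqi) hij, tri_apply_left hpq hqi,
        tri_apply_right hpj hqj, tri_apply_of_ne (Ne.symm hpj) (Ne.symm hqj) (Ne.symm hij)]
    simp [tri_apply_of_ne h1 h2 h3, tri_apply_of_ne h1 h2 h4]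
  · intro h
    have h' := congrArg (fun g : Perm α => g p) h
    simp only [Perm.mul_apply, tri_apply_left hpq hqj, tri_apply_mid, Perm.one_apply] at h'
    exact hpi h'.symm

/-- An automorphism of `A_n`, `n ≥ 4`, preserving the 3-cycles is conjugation by a permutation. -/
theorem exists_conjNormal_eq_of_threeCycle (h4 : 4 ≤ Fintype.card α)
    (ψ : MulAut (alternatingGroup α))
    (hψ : ∀ x : alternatingGroup α, IsThreeCycle (x : Perm α) → IsThreeCycle (ψ x : Perm α)) :
    ∃ σ : Perm α, MulAut.conjNormal σ = ψ := by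
  obtain ⟨p, q, hpq⟩ := (Fintype.one_lt_card_iff (α := α)).1 (by omega)
  let I := {i : α // i ≠ p ∧ i ≠ q}
  let t : I → alternatingGroup α := fun i =>
    ⟨tri p q i.1, tri_mem_alt hpq (Ne.symm i.2.1) (Ne.symm i.2.2)⟩
  let f : I → Perm α := fun i => (ψ (t i) : Perm α)
  have hf : ∀ i, IsThreeCycle (f i) := fun i =>
    hψ (t i) (tri_isThreeCycle hpq (Ne.symm i.2.1) (Ne.symm i.2.2))
  have hinj : Function.Injective f := by
    intro i j h
    have := congrArg Subtype.val (ψ.injective (Subtype.ext h : ψ (t i) = ψ (t j)))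
    exact Subtype.ext (by
      have h2 := congrArg (fun g : Perm α => g q) this
      simpa [t, tri_apply_mid] using h2)
  have hpair : ∀ i j, i ≠ j → ∃ a b, a ≠ b ∧ f i a = b ∧ f j a = b ∧ f i b ≠ f j b := by
    intro i j hij
    have hij' : i.1 ≠ j.1 := fun h => hij (Subtype.ext h)
    obtain ⟨h1, h2⟩ := tri_mul_tri_sq hpq (Ne.symm i.2.1) (Ne.symm i.2.2) (Ne.symm j.2.1)
      (Ne.symm j.2.2) hij'
    refine threeCycle_pair (hf i) (hf j) ?_ ?_
    · have : ψ (t i) * ψ (t j) * (ψ (t i) * ψ (t j)) = 1 := by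
        rw [← map_mul, ← map_mul, show t i * t j * (t i * t j) = 1 from Subtype.ext h1, map_one]
      exact congrArg Subtype.val this
    · intro h
      apply h2
      have h' : ψ (t i * t j) = 1 := by rw [map_mul]; exact Subtype.ext h
      exact congrArg Subtype.val ((map_eq_one_iff ψ ψ.injective).1 h')
  -- two reference points
  obtain ⟨i0, hi0⟩ := exists_notMem_of_card_lt (s := ({p, q} : Finset α))
    (lt_of_le_of_lt Finset.card_le_two (by omega))
  obtain ⟨i1, hi1⟩ := exists_notMem_of_card_lt (s := ({p, q, i0} : Finset α))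
    (lt_of_le_of_lt Finset.card_le_three (by omega))
  simp only [Finset.mem_insert, Finset.mem_singleton, not_or] at hi0 hi1
  obtain ⟨a, b, hab, h0, h1, hne⟩ := hpair ⟨i0, hi0⟩ ⟨i1, hi1.1, hi1.2.1⟩
    (fun h => hi1.2.2 (congrArg Subtype.val h).symm)
  set F := f ⟨i0, hi0⟩ with hFdef
  set G := f ⟨i1, hi1.1, hi1.2.1⟩ with hGdef
  obtain ⟨hF, hFa, hFb⟩ := threeCycle_eq_tri (hf ⟨i0, hi0⟩) hab h0
  obtain ⟨hG, hGa, hGb⟩ := threeCycle_eq_tri (hf ⟨i1, hi1.1, hi1.2.1⟩) hab h1
  rw [← hFdef] at hF hFa hFb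
  rw [← hGdef] at hG hGa hGb
  -- all images go through the arrow `a → b`
  have hall : ∀ i, f i a = b := by
    intro i
    by_cases e0 : i = ⟨i0, hi0⟩
    · rw [e0]; exact h0
    by_cases e1 : i = ⟨i1, hi1.1, hi1.2.1⟩
    · rw [e1]; exact h1
    by_contra hne'
    obtain ⟨u, v, huv, hu, hu', -⟩ := hpair i ⟨i0, hi0⟩ e0
    obtain ⟨u2, v2, huv2, hu2, hu2', -⟩ := hpair i ⟨i1, hi1.1, hi1.2.1⟩ e1
    obtain ⟨hE, hE1, hE2⟩ := threeCycle_eq_tri (hf i) huv hu
    rw [← hFdef] at hu'
    rw [← hGdef] at hu2'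
    have hu_cases : (u = b ∧ v = F b) ∨ (u = F b ∧ v = a) := by
      rw [hF] at hu'
      by_cases k1 : u = a
      · rw [k1, tri_apply_left hab (Ne.symm hFb)] at hu'
        exact absurd (by rw [hu', ← k1]; exact hu) hne'
      by_cases k2 : u = b
      · rw [k2, tri_apply_mid] at hu'
        exact Or.inl ⟨k2, hu'.symm⟩
      by_cases k3 : u = F b
      · rw [k3, tri_apply_right (Ne.symm hFa) (Ne.symm hFb)] at hu'
        exact Or.inr ⟨k3, hu'.symm⟩
      · rw [tri_apply_of_ne k1 k2 k3] at hu'; exact absurd hu' huv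
    have hu2_cases : (u2 = b ∧ v2 = G b) ∨ (u2 = G b ∧ v2 = a) := by
      rw [hG] at hu2'
      by_cases k1 : u2 = a
      · rw [k1, tri_apply_left hab (Ne.symm hGb)] at hu2'
        exact absurd (by rw [hu2', ← k1]; exact hu2) hne'
      by_cases k2 : u2 = b
      · rw [k2, tri_apply_mid] at hu2'
        exact Or.inl ⟨k2, hu2'.symm⟩
      by_cases k3 : u2 = G b
      · rw [k3, tri_apply_right (Ne.symm hGa) (Ne.symm hGb)] at hu2'
        exact Or.inr ⟨k3, hu2'.symm⟩
      · rw [tri_apply_of_ne k1 k2 k3] at hu2'; exact absurd hu2' huv2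
    rcases hu_cases with ⟨rfl, rfl⟩ | ⟨rfl, rfl⟩ <;>
      rcases hu2_cases with ⟨rfl, rfl⟩ | ⟨rfl, rfl⟩
    · exact hne (hu.symm.trans hu2)
    · -- `b → F b → _` and `G b → a` in one 3-cycle
      have h3 : f i (f i (f i u)) = u := threeCycle_apply3 (hf i) u
      by_cases k : G u = f i (f i u)
      · rw [← k, hu2] at h3; exact hab h3
      · have : f i (G u) = G u := by
          rw [hE]
          refine tri_apply_of_ne hGb ?_ ?_
          · exact fun h => hne h.symm
          · rwa [← hu]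
        exact hGa (this.symm.trans hu2)
    · -- `F b → a` and `b → G b`
      have h3 : f i (f i (f i u2)) = u2 := threeCycle_apply3 (hf i) u2
      obtain ⟨hE', -, -⟩ := threeCycle_eq_tri (hf i) huv2 hu2
      by_cases k : F u2 = f i (f i u2)
      · rw [← k, hu] at h3; exact hab h3
      · have : f i (F u2) = F u2 := by
          rw [hE']
          refine tri_apply_of_ne hFb ?_ ?_
          · exact fun h => hne h
          · rwa [← hu2]
        exact hFa (this.symm.trans hu)
    · exact hne ((f i).injective (hu.trans hu2.symm))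
  have hπ : ∀ i, f i = tri a b (f i b) ∧ f i b ≠ a ∧ f i b ≠ b := fun i =>
    threeCycle_eq_tri (hf i) hab (hall i)
  let s : α → α := fun x => if hx : x ≠ p ∧ x ≠ q then f ⟨x, hx⟩ b else if x = p then a else b
  have hsp : s p = a := by simp [s]
  have hsq : s q = b := by simp [s, Ne.symm hpq]
  have hsi : ∀ i : I, s i.1 = f i b := fun i => by simp only [s, dif_pos i.2, Subtype.coe_eta]
  have hsinj : Function.Injective s := by
    intro x y hxy
    by_cases hx : x ≠ p ∧ x ≠ q <;> by_cases hy : y ≠ p ∧ y ≠ q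
    · rw [hsi ⟨x, hx⟩, hsi ⟨y, hy⟩] at hxy
      exact congrArg Subtype.val (hinj ((hπ ⟨x, hx⟩).1.trans (by rw [hxy]; exact (hπ ⟨y, hy⟩).1.symm)))
    · rw [hsi ⟨x, hx⟩] at hxy
      rcases not_and_or.1 hy with h | h <;> rw [not_not.1 h] at hxy
      · exact absurd (hxy.trans hsp) (hπ _).2.1
      · exact absurd (hxy.trans hsq) (hπ _).2.2
    · rw [hsi ⟨y, hy⟩] at hxy
      rcases not_and_or.1 hx with h | h <;> rw [not_not.1 h] at hxy
      · exact absurd (hxy.symm.trans hsp) (hπ _).2.1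
      · exact absurd (hxy.symm.trans hsq) (hπ _).2.2
    · rcases not_and_or.1 hx with h | h <;> rcases not_and_or.1 hy with h' | h' <;>
        rw [not_not.1 h, not_not.1 h'] at hxy ⊢
      · exact absurd (hsp.symm.trans (hxy.trans hsq)) hab
      · exact absurd (hsp.symm.trans (hxy.symm.trans hsq)) hab
  let σ : Perm α := Equiv.ofBijective s (Finite.injective_iff_bijective.1 hsinj)
  refine ⟨σ, ?_⟩
  have key : ∀ i : I, MulAut.conjNormal σ (t i) = ψ (t i) := fun i => Subtype.ext (by
    rw [MulAut.conjNormal_apply]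
    change σ * tri p q i.1 * σ⁻¹ = f i
    rw [tri_conj, (hπ i).1]
    change tri (s p) (s q) (s i.1) = _
    rw [hsp, hsq, hsi])
  ext1 x
  have hgen : Subgroup.closure (Set.range t) = ⊤ := by
    apply Subgroup.map_injective (alternatingGroup α).subtype_injective
    rw [MonoidHom.map_closure, ← MonoidHom.range_eq_map, Subgroup.range_subtype]
    refine le_antisymm ((Subgroup.closure_le _).2 ?_) ((alt_le_closure_tri hpq).trans
      (Subgroup.closure_mono ?_))
    · rintro _ ⟨y, -, rfl⟩; exact y.2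
    · rintro g ⟨i, hi1, hi2, rfl⟩
      exact ⟨t ⟨i, hi1, hi2⟩, ⟨_, rfl⟩, rfl⟩
  exact DFunLike.congr_fun (MonoidHom.eq_of_eqOn_dense hgen
    (f := (MulAut.conjNormal σ).toMonoidHom) (g := ψ.toMonoidHom)
    (by rintro _ ⟨i, rfl⟩; exact key i)) x

/-- Every automorphism of `A_n`, `n ≥ 4`, `n ≠ 6`, is conjugation by a permutation. -/
theorem conjNormal_surjective (h4 : 4 ≤ Fintype.card α) (h6 : Fintype.card α ≠ 6) :
    Function.Surjective (MulAut.conjNormal : Perm α →* MulAut (alternatingGroup α)) :=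
  fun ψ => exists_conjNormal_eq_of_threeCycle h4 ψ fun _ hx => isThreeCycle_map h6 ψ hx

/-- `Aut A_n ≅ S_n` for `n ≥ 4`, `n ≠ 6`. -/
noncomputable def autEquiv (h4 : 4 ≤ Fintype.card α) (h6 : Fintype.card α ≠ 6) :
    Perm α ≃* MulAut (alternatingGroup α) :=
  MulEquiv.ofBijective MulAut.conjNormal ⟨conjNormal_injective h4, conjNormal_surjective h4 h6⟩

/-- Every automorphism of `A_n` is the restriction of a conjugation of `S_n`. -/
theorem exists_conj_eq (h4 : 4 ≤ Fintype.card α) (h6 : Fintype.card α ≠ 6)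
    (ψ : MulAut (alternatingGroup α)) :
    ∃ σ : Perm α, ∀ x, (ψ x : Perm α) = σ * (x : Perm α) * σ⁻¹ := by
  obtain ⟨σ, rfl⟩ := conjNormal_surjective h4 h6 ψ
  exact ⟨σ, fun x => MulAut.conjNormal_apply σ x⟩

theorem nat_card_mulAut_alt (h4 : 4 ≤ Fintype.card α) (h6 : Fintype.card α ≠ 6) :
    Nat.card (MulAut (alternatingGroup α)) = (Fintype.card α)! := by
  rw [← Nat.card_congr (autEquiv h4 h6).toEquiv, Nat.card_perm, Nat.card_eq_fintype_card]

end Cfsg.Agent.Lib.Alternating
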