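import Mathlib

/-!
# Symmetric and alternating groups: basic API

* `altEquivOfCard` : `A(α) ≃* A(β)` for sets of equal size
* `normal_perm` : normal subgroups of `S_n`, `n ≥ 5`
* `centralizer_alt_eq_bot`, `conjNormal_injective`
* `isConj_alt_of_odd_centralizing`, `isConj_alt_of_even_mem`, `isConj_alt_of_odd_count`,
  `not_isConj_alt` : conjugacy in `A_n`
* `exists_orderOf_perm_iff`, `exists_orderOf_alt_iff` : element orders
* `index_ge_alt`, `perm_index_cases` : subgroups of small index
-/

namespace Cfsg.Agent.Lib.Alternating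

open Equiv Equiv.Perm MulAction
open scoped Nat

variable {α : Type*} [Fintype α] [DecidableEq α]

omit [DecidableEq α] in
theorem exists_notMem_of_card_lt {s : Finset α} (h : s.card < Fintype.card α) : ∃ x, x ∉ s := by
  obtain ⟨x, -, hx⟩ := Finset.exists_mem_notMem_of_card_lt_card
    (show s.card < (Finset.univ : Finset α).card by rwa [Finset.card_univ])
  exact ⟨x, hx⟩

/-- Alternating groups on sets of the same size are isomorphic. -/
noncomputable def altEquivOfCard {β : Type*} [Fintype β] [DecidableEq β]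
    (h : Fintype.card α = Fintype.card β) : alternatingGroup α ≃* alternatingGroup β :=
  Equiv.altCongrHom (Fintype.equivOfCardEq h)

/-- A permutation commuting with all even permutations is trivial, for at least 4 points. -/
theorem eq_one_of_commute_alt (h4 : 4 ≤ Fintype.card α) {g : Perm α}
    (hg : ∀ x ∈ alternatingGroup α, g * x = x * g) : g = 1 := by
  by_contra hne
  obtain ⟨a, ha⟩ : ∃ a, g a ≠ a := by
    by_contra h
    push Not at h
    exact hne (Equiv.ext h)
  obtain ⟨c, hc⟩ : ∃ c, c ∉ ({a, g a} : Finset α) :=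
    exists_notMem_of_card_lt (lt_of_le_of_lt Finset.card_le_two (by omega))
  obtain ⟨d, hd⟩ : ∃ d, d ∉ ({a, g a, c} : Finset α) :=
    exists_notMem_of_card_lt (lt_of_le_of_lt Finset.card_le_three (by omega))
  simp only [Finset.mem_insert, Finset.mem_singleton, not_or] at hc hd
  -- the 3-cycle through `g a, c, d` fixes `a` but moves `g a`
  have hx : swap (g a) c * swap (g a) d ∈ alternatingGroup α :=
    mul_mem_alternatingGroup_of_isSwap ⟨_, _, Ne.symm hc.2, rfl⟩ ⟨_, _, Ne.symm hd.2.1, rfl⟩
  have := congrArg (fun p : Perm α => p a) (hg _ hx)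
  simp only [Perm.mul_apply] at this
  rw [swap_apply_of_ne_of_ne (Ne.symm ha) (Ne.symm hd.1),
    swap_apply_of_ne_of_ne (Ne.symm ha) (Ne.symm hc.1),
    swap_apply_left, swap_apply_of_ne_of_ne hd.2.1 hd.2.2] at this
  exact hd.2.1 this.symm

/-- The centraliser of the alternating group in the symmetric group is trivial. -/
theorem centralizer_alt_eq_bot (h4 : 4 ≤ Fintype.card α) :
    Subgroup.centralizer (alternatingGroup α : Set (Perm α)) = ⊥ :=
  (Subgroup.eq_bot_iff_forall _).2 fun _ hg =>
    eq_one_of_commute_alt h4 fun x hx => (Subgroup.mem_centralizer_iff.1 hg x hx).symm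

/-- The conjugation map `S_n → Aut A_n` is injective. -/
theorem conjNormal_injective (h4 : 4 ≤ Fintype.card α) :
    Function.Injective (MulAut.conjNormal : Perm α →* MulAut (alternatingGroup α)) := by
  rw [injective_iff_map_eq_one]
  intro g hg
  apply eq_one_of_commute_alt h4
  intro x hx
  have := congrArg Subtype.val (DFunLike.congr_fun hg ⟨x, hx⟩)
  rw [MulAut.conjNormal_apply] at this
  simp only [MulAut.one_apply] at this
  rw [← mul_inv_eq_iff_eq_mul]
  exact this

/-- Normal subgroups of the symmetric group on at least 5 points. -/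
theorem normal_perm (h5 : 5 ≤ Fintype.card α) (N : Subgroup (Perm α)) [N.Normal] :
    N = ⊥ ∨ N = alternatingGroup α ∨ N = ⊤ := by
  have : Nontrivial α := Fintype.one_lt_card_iff_nontrivial.1 (by omega)
  rcases eq_or_ne N ⊥ with h | h
  · exact Or.inl h
  right
  have hle : alternatingGroup α ≤ N :=
    Equiv.Perm.alternatingGroup_le_of_normal (by rw [Nat.card_eq_fintype_card]; omega)
      ((Subgroup.nontrivial_iff_ne_bot N).2 h)
  have h2 : N.index ∣ 2 := alternatingGroup.index_eq_two (α := α) ▸ Subgroup.index_dvd_of_le hle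
  rcases (Nat.dvd_prime Nat.prime_two).1 h2 with h' | h'
  · exact Or.inr (Subgroup.index_eq_one.1 h')
  · exact Or.inl (Equiv.Perm.eq_alternatingGroup_of_index_eq_two h')

theorem alt_not_isMulCommutative (h4 : 4 ≤ Fintype.card α) :
    ¬ IsMulCommutative (alternatingGroup α) := by
  rw [alternatingGroup.isMulCommutative_iff_card_le_three, Nat.card_eq_fintype_card]
  omega

/-! ### Conjugacy in the alternating group -/

/-- If some odd permutation commutes with `σ`, the `S_n`-class of `σ` is its `A_n`-class. -/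
theorem isConj_alt_of_odd_centralizing {σ τ : alternatingGroup α}
    (hc : IsConj (σ : Perm α) (τ : Perm α)) {c : Perm α} (hodd : Perm.sign c = -1)
    (hcomm : c * (σ : Perm α) = (σ : Perm α) * c) : IsConj σ τ := by
  obtain ⟨π, hπ⟩ := isConj_iff.1 hc
  rcases Int.units_eq_one_or (Perm.sign π) with h | h
  · exact isConj_iff.2 ⟨⟨π, mem_alternatingGroup.2 h⟩, Subtype.ext (by simpa using hπ)⟩
  · refine isConj_iff.2 ⟨⟨π * c, ?_⟩, Subtype.ext ?_⟩
    · rw [mem_alternatingGroup, map_mul, h, hodd, Int.units_mul_self]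
    · simp only [Subgroup.coe_mul, Subgroup.coe_inv]
      rw [mul_inv_rev, mul_assoc π c, hcomm, ← hπ]
      group

/-- Elements of `A_n` of the same cycle type are conjugate in `A_n` if the centraliser in `S_n`
is not contained in `A_n`. -/
theorem isConj_alt_of_centralizer_not_le {σ τ : alternatingGroup α}
    (hc : (σ : Perm α).cycleType = (τ : Perm α).cycleType)
    (hnle : ¬ Subgroup.centralizer {(σ : Perm α)} ≤ alternatingGroup α) : IsConj σ τ := by
  obtain ⟨c, hc1, hc2⟩ := SetLike.not_le_iff_exists.1 hnle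
  refine isConj_alt_of_odd_centralizing (isConj_iff_cycleType_eq.2 hc) ?_
    (Subgroup.mem_centralizer_singleton_iff.1 hc1)
  exact (Int.units_eq_one_or _).resolve_left (fun h => hc2 (mem_alternatingGroup.2 h))

/-- An even permutation with an even cycle length has a non-split class. -/
theorem isConj_alt_of_even_mem {σ τ : alternatingGroup α}
    (hc : (σ : Perm α).cycleType = (τ : Perm α).cycleType)
    {k : ℕ} (hk : k ∈ (σ : Perm α).cycleType) (heven : Even k) : IsConj σ τ := by
  refine isConj_alt_of_centralizer_not_le hc fun hle => ?_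
  exact (Nat.not_odd_iff_even.2 heven)
    ((centralizer_le_alternating_iff.1 hle).1 k hk)

/-- An even permutation with two fixed points has a non-split class. -/
theorem isConj_alt_of_two_fixed {σ τ : alternatingGroup α}
    (hc : (σ : Perm α).cycleType = (τ : Perm α).cycleType)
    (hfix : (σ : Perm α).cycleType.sum + 2 ≤ Fintype.card α) : IsConj σ τ := by
  refine isConj_alt_of_centralizer_not_le hc fun hle => ?_
  have := (centralizer_le_alternating_iff.1 hle).2.1
  omega

/-- An even permutation with two cycles of the same length has a non-split class. -/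
theorem isConj_alt_of_count {σ τ : alternatingGroup α}
    (hc : (σ : Perm α).cycleType = (τ : Perm α).cycleType)
    {k : ℕ} (hk : 2 ≤ (σ : Perm α).cycleType.count k) : IsConj σ τ := by
  refine isConj_alt_of_centralizer_not_le hc fun hle => ?_
  have := (centralizer_le_alternating_iff.1 hle).2.2 k
  omega

/-- If the centraliser is inside `A_n`, an odd conjugate is not conjugate in `A_n`. -/
theorem not_isConj_alt {σ : alternatingGroup α}
    (hle : Subgroup.centralizer {(σ : Perm α)} ≤ alternatingGroup α)
    {π : Perm α} (hπ : Perm.sign π = -1) {τ : alternatingGroup α}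
    (hτ : (τ : Perm α) = π * σ * π⁻¹) : ¬ IsConj σ τ := by
  intro h
  obtain ⟨c, hc⟩ := isConj_iff.1 h
  have hc' : (c : Perm α) * σ * (c : Perm α)⁻¹ = π * σ * π⁻¹ := by
    rw [← hτ, ← hc]; simp
  have hmem : π⁻¹ * (c : Perm α) ∈ Subgroup.centralizer {(σ : Perm α)} := by
    rw [Subgroup.mem_centralizer_singleton_iff]
    calc π⁻¹ * (c : Perm α) * σ = π⁻¹ * ((c : Perm α) * σ * (c : Perm α)⁻¹) * c := by group
      _ = σ * (π⁻¹ * c) := by rw [hc']; group
  have h1 := mem_alternatingGroup.1 (hle hmem)
  rw [map_mul, map_inv, hπ, mem_alternatingGroup.1 c.2] at h1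
  simp at h1

/-! ### Element orders -/

/-- Orders of permutations: least common multiples of cycle types fitting on the points. -/
theorem exists_orderOf_perm_iff {m : ℕ} :
    (∃ g : Perm α, orderOf g = m) ↔
      ∃ t : Multiset ℕ, (∀ a ∈ t, 2 ≤ a) ∧ t.sum ≤ Fintype.card α ∧ t.lcm = m := by
  constructor
  · rintro ⟨g, rfl⟩
    exact ⟨g.cycleType, fun a ha => two_le_of_mem_cycleType ha, sum_cycleType_le g,
      lcm_cycleType g⟩
  · rintro ⟨t, h2, hs, rfl⟩
    obtain ⟨g, hg⟩ := (exists_with_cycleType_iff α).2 ⟨hs, h2⟩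
    exact ⟨g, by rw [← lcm_cycleType, hg]⟩

/-- Orders of even permutations. -/
theorem exists_orderOf_alt_iff {m : ℕ} :
    (∃ g : alternatingGroup α, orderOf g = m) ↔
      ∃ t : Multiset ℕ, (∀ a ∈ t, 2 ≤ a) ∧ t.sum ≤ Fintype.card α ∧
        Even (t.sum + Multiset.card t) ∧ t.lcm = m := by
  constructor
  · rintro ⟨g, rfl⟩
    refine ⟨(g : Perm α).cycleType, fun a ha => two_le_of_mem_cycleType ha, sum_cycleType_le _,
      ?_, by rw [lcm_cycleType, Subgroup.orderOf_coe]⟩
    have h := mem_alternatingGroup.1 g.2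
    rw [sign_of_cycleType, neg_one_pow_eq_one_iff_even (by decide)] at h
    exact h
  · rintro ⟨t, h2, hs, he, rfl⟩
    obtain ⟨g, hg⟩ := (exists_with_cycleType_iff α).2 ⟨hs, h2⟩
    refine ⟨⟨g, ?_⟩, ?_⟩
    · rw [mem_alternatingGroup, sign_of_cycleType, hg,
        neg_one_pow_eq_one_iff_even (by decide)]
      exact he
    · rw [← Subgroup.orderOf_coe, Subgroup.coe_mk, ← lcm_cycleType, hg]

theorem range_orderOf_alt :
    Set.range (orderOf : alternatingGroup α → ℕ) =
      {m | ∃ t : Multiset ℕ, (∀ a ∈ t, 2 ≤ a) ∧ t.sum ≤ Fintype.card α ∧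
        Even (t.sum + Multiset.card t) ∧ t.lcm = m} :=
  Set.ext fun _ => exists_orderOf_alt_iff

/-! ### Subgroups of small index -/

/-- A nontrivial simple group with a proper subgroup of index `k` has order dividing `k!`. -/
theorem card_dvd_factorial_of_simple {G : Type*} [Group G] [Finite G] [IsSimpleGroup G]
    (H : Subgroup G) (hH : H ≠ ⊤) : Nat.card G ∣ (H.index)! := by
  have hk : (MulAction.toPermHom G (G ⧸ H)).ker = ⊥ := by
    refine (MulAction.toPermHom G (G ⧸ H)).normal_ker.eq_bot_or_eq_top.resolve_right fun h => ?_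
    apply hH
    rw [eq_top_iff, ← h, ← Subgroup.normalCore_eq_ker]
    exact H.normalCore_le
  have h := Subgroup.card_dvd_of_injective _ ((MonoidHom.ker_eq_bot_iff _).1 hk)
  rwa [Nat.card_perm] at h

/-- A proper subgroup of `A_n`, `n ≥ 5`, has index at least `n`. -/
theorem index_ge_alt (h5 : 5 ≤ Fintype.card α) (H : Subgroup (alternatingGroup α))
    (hH : H ≠ ⊤) : Fintype.card α ≤ H.index := by
  have : IsSimpleGroup (alternatingGroup α) :=
    alternatingGroup.isSimpleGroup (by rw [Nat.card_eq_fintype_card]; omega)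
  have : Nontrivial α := Fintype.one_lt_card_iff_nontrivial.1 (by omega)
  by_contra hlt
  push Not at hlt
  have hd := card_dvd_factorial_of_simple H hH
  have h2 := two_mul_nat_card_alternatingGroup (α := α)
  rw [Nat.card_perm, Nat.card_eq_fintype_card (α := α)] at h2
  obtain ⟨m, hm⟩ : ∃ m, Fintype.card α = m + 1 := ⟨Fintype.card α - 1, by omega⟩
  have hle : (H.index)! ≤ m ! := Nat.factorial_le (by omega)
  have h3 := Nat.le_of_dvd (Nat.factorial_pos _) hd
  have h4 : 5 * m ! ≤ (m + 1) * m ! := Nat.mul_le_mul_right _ (by omega)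
  rw [hm, Nat.factorial_succ] at h2
  have := Nat.factorial_pos m
  omega

/-- A subgroup of `S_n`, `n ≥ 5`, is `S_n`, `A_n`, or has index at least `n`. -/
theorem perm_index_cases (h5 : 5 ≤ Fintype.card α) (H : Subgroup (Perm α)) :
    H = ⊤ ∨ H = alternatingGroup α ∨ Fintype.card α ≤ H.index := by
  have : Nontrivial α := Fintype.one_lt_card_iff_nontrivial.1 (by omega)
  by_cases hle : alternatingGroup α ≤ H
  · have h2 : H.index ∣ 2 := alternatingGroup.index_eq_two (α := α) ▸ Subgroup.index_dvd_of_le hle
    rcases (Nat.dvd_prime Nat.prime_two).1 h2 with h' | h'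
    · exact Or.inl (Subgroup.index_eq_one.1 h')
    · exact Or.inr (Or.inl (Equiv.Perm.eq_alternatingGroup_of_index_eq_two h'))
  · refine Or.inr (Or.inr ((index_ge_alt h5 (H.subgroupOf (alternatingGroup α)) ?_).trans ?_))
    · rwa [ne_eq, Subgroup.subgroupOf_eq_top]
    · rw [← Subgroup.relIndex_top_right H]
      exact Subgroup.relIndex_le_of_le_right le_top
        (by rw [Subgroup.relIndex_top_right]; exact Subgroup.index_ne_zero_of_finite)

end Cfsg.Agent.Lib.Alternating
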