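import Cfsg.Agent.Lib.Alternating.Basic

/-!
# Three-cycles, generation of `A_n`, centralisers in `A_n`
-/

namespace Cfsg.Agent.Lib.Alternating

open Equiv Equiv.Perm
open scoped Nat

variable {α : Type*} [DecidableEq α]

/-- The 3-cycle `a → b → c → a`. -/
def tri (a b c : α) : Perm α := swap a c * swap a b

theorem tri_apply_left {a b c : α} (hab : a ≠ b) (hbc : b ≠ c) : tri a b c a = b := by
  rw [tri, Perm.mul_apply, swap_apply_left, swap_apply_of_ne_of_ne (Ne.symm hab) hbc]

theorem tri_apply_mid {a b c : α} : tri a b c b = c := by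
  rw [tri, Perm.mul_apply, swap_apply_right, swap_apply_left]

theorem tri_apply_right {a b c : α} (hac : a ≠ c) (hbc : b ≠ c) : tri a b c c = a := by
  rw [tri, Perm.mul_apply, swap_apply_of_ne_of_ne (Ne.symm hac) (Ne.symm hbc), swap_apply_right]

theorem tri_apply_of_ne {a b c x : α} (ha : x ≠ a) (hb : x ≠ b) (hc : x ≠ c) :
    tri a b c x = x := by
  rw [tri, Perm.mul_apply, swap_apply_of_ne_of_ne ha hb, swap_apply_of_ne_of_ne ha hc]

variable [Fintype α]

theorem tri_isThreeCycle {a b c : α} (hab : a ≠ b) (hac : a ≠ c) (hbc : b ≠ c) :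
    IsThreeCycle (tri a b c) :=
  isThreeCycle_swap_mul_swap_same hac hab (Ne.symm hbc)

theorem tri_mem_alt {a b c : α} (hab : a ≠ b) (hac : a ≠ c) (hbc : b ≠ c) :
    tri a b c ∈ alternatingGroup α :=
  (tri_isThreeCycle hab hac hbc).mem_alternatingGroup

theorem threeCycle_apply3 {f : Perm α} (hf : IsThreeCycle f) (x : α) : f (f (f x)) = x := by
  have h : f ^ 3 = 1 := hf.orderOf ▸ pow_orderOf_eq_one f
  calc f (f (f x)) = (f ^ 3) x := rfl
    _ = x := by rw [h]; rfl

theorem threeCycle_apply2_ne {f : Perm α} (hf : IsThreeCycle f) {x : α} (hx : f x ≠ x) :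
    f (f x) ≠ x := fun h => hx (by have := threeCycle_apply3 hf x; rwa [h] at this)

/-- A 3-cycle is determined by any one of its arrows and the next point. -/
theorem threeCycle_eq_tri {f : Perm α} (hf : IsThreeCycle f) {a b : α} (hab : a ≠ b)
    (h : f a = b) : f = tri a b (f b) ∧ f b ≠ a ∧ f b ≠ b := by
  have hfb : f b ≠ b := fun hh => hab (f.injective (h.trans hh.symm))
  have hfb' : f b ≠ a := by
    subst h
    exact threeCycle_apply2_ne hf (Ne.symm hab)
  refine ⟨?_, hfb', hfb⟩
  have hsub : ({a, b, f b} : Finset α) = f.support := by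
    refine Finset.eq_of_subset_of_card_le ?_ ?_
    · simp only [Finset.insert_subset_iff, Finset.singleton_subset_iff, mem_support]
      exact ⟨by rw [h]; exact Ne.symm hab, hfb, fun hh => hfb (f.injective hh)⟩
    · rw [hf.card_support,
        Finset.card_eq_three.2 ⟨a, b, f b, hab, Ne.symm hfb', Ne.symm hfb, rfl⟩]
  have hc : f (f b) = a := by
    have := threeCycle_apply3 hf a
    rwa [h] at this
  ext x
  by_cases hx : x = a
  · rw [hx, tri_apply_left hab (Ne.symm hfb), h]
  by_cases hy : x = b
  · rw [hy, tri_apply_mid]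
  by_cases hz : x = f b
  · rw [hz, tri_apply_right (Ne.symm hfb') (Ne.symm hfb), hc]
  rw [tri_apply_of_ne hx hy hz]
  exact notMem_support.1 (by rw [← hsub]; simp [hx, hy, hz])

/-- Two distinct 3-cycles whose product is an involution share exactly one arrow. -/
theorem threeCycle_pair {f g : Perm α} (hf : IsThreeCycle f) (hg : IsThreeCycle g)
    (hfg : (f * g) * (f * g) = 1) (hne : f * g ≠ 1) :
    ∃ a b, a ≠ b ∧ f a = b ∧ g a = b ∧ f b ≠ g b := by
  have hrel : ∀ y, f (g (f (g y))) = y := fun y => congrArg (fun p : Perm α => p y) hfg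
  have hkey : ∀ x, f x ≠ x → g x = x → g (f (f x)) ≠ f (f x) ∧ g (f x) = f (f x) := by
    intro x hx hgx
    have h2 : g (f x) = f (f x) := by
      have h1 := hrel x
      rw [hgx] at h1
      exact f.injective (h1.trans (threeCycle_apply3 hf x).symm)
    refine ⟨fun h3 => hx ?_, h2⟩
    exact (f.injective (g.injective (h2.trans h3.symm))).symm
  obtain ⟨c, hc, hgc⟩ : ∃ c, f c ≠ c ∧ g c = c := by
    by_contra hno
    push Not at hno
    obtain ⟨c, hc⟩ : ∃ c, f c ≠ c := by
      by_contra hall
      push Not at hall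
      exact hf.ne_one (Equiv.ext hall)
    have hfc : f (f c) ≠ f c := fun h => hc (f.injective h)
    have hffc : f (f (f c)) ≠ f (f c) := fun h => hfc (f.injective h)
    have hgc := hno c hc
    obtain ⟨hg1, hg2, hg3⟩ := threeCycle_eq_tri hg (Ne.symm hgc) rfl
    have hmem : ∀ y, g y ≠ y → y = c ∨ y = g c ∨ y = g (g c) := by
      intro y hy
      by_contra hcon
      push Not at hcon
      rw [hg1] at hy
      exact hy (tri_apply_of_ne hcon.1 hcon.2.1 hcon.2.2)
    obtain ⟨hf1, hf2, hf3⟩ := threeCycle_eq_tri hf (Ne.symm hc) rfl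
    rcases hmem _ (hno _ hfc) with h | h | h
    · exact hc h
    · -- same orientation: `f = g`
      have hh : f (f c) = g (g c) := by
        rcases hmem _ (hno _ hffc) with h' | h' | h'
        · exact absurd h' hf2
        · exact absurd (h'.trans h.symm) hfc
        · exact h'
      have hfg' : f = g := by rw [hf1, hg1, h, ← hh, h]
      rw [hfg'] at hfg hne
      have h3 : g ^ 3 = 1 := hg.orderOf ▸ pow_orderOf_eq_one g
      apply hg.ne_one
      calc g = (g ^ 3)⁻¹ * ((g * g) * (g * g)) := by group
        _ = 1 := by rw [h3, hfg]; simp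
    · -- opposite orientation: `f = g⁻¹`
      have hh : f (f c) = g c := by
        rcases hmem _ (hno _ hffc) with h' | h' | h'
        · exact absurd h' hf2
        · exact h'
        · exact absurd (h'.trans h.symm) hfc
      apply hne
      ext y
      rw [Perm.mul_apply, Perm.one_apply]
      by_cases h1 : y = c
      · rw [h1, ← hh, threeCycle_apply3 hf]
      by_cases h2 : y = g c
      · rw [h2, ← h, ← hh]
      by_cases h3 : y = g (g c)
      · rw [h3, threeCycle_apply3 hg, h]
      rw [hg1, tri_apply_of_ne h1 h2 h3, hf1, tri_apply_of_ne h1 (h ▸ h3) (hh ▸ h2)]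
  refine ⟨f c, f (f c), fun h => hc (f.injective h).symm, rfl, (hkey c hc hgc).2, ?_⟩
  rw [threeCycle_apply3 hf]
  exact fun h => threeCycle_apply2_ne hf hc (g.injective (h.symm.trans hgc.symm))

/-- `S_n` is generated by the transpositions through one point. -/
theorem closure_star_swaps (p : α) :
    Subgroup.closure {s : Perm α | ∃ x, x ≠ p ∧ s = swap p x} = ⊤ := by
  set S := Subgroup.closure {s : Perm α | ∃ x, x ≠ p ∧ s = swap p x}
  have hsw : ∀ x, swap p x ∈ S := fun x => by
    rcases eq_or_ne x p with h | h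
    · rw [h, swap_self]; exact one_mem S
    · exact Subgroup.subset_closure ⟨x, h, rfl⟩
  rw [eq_top_iff, ← Equiv.Perm.closure_isSwap, Subgroup.closure_le]
  rintro g ⟨x, y, hxy, rfl⟩
  rcases eq_or_ne x p with hx | hx
  · subst hx; exact hsw y
  rcases eq_or_ne y p with hy | hy
  · subst hy; rw [swap_comm]; exact hsw x
  have : swap x y = swap p x * swap p y * swap p x := by
    rw [swap_comm p y, Equiv.swap_mul_swap_mul_swap hy (Ne.symm hxy)]
  rw [this]
  exact mul_mem (mul_mem (hsw x) (hsw y)) (hsw x)

/-- `A_n` is generated by the 3-cycles through a fixed arrow `p → q`. -/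
theorem alt_le_closure_tri {p q : α} (_hpq : p ≠ q) :
    alternatingGroup α ≤ Subgroup.closure {g | ∃ i, i ≠ p ∧ i ≠ q ∧ g = tri p q i} := by
  set H := Subgroup.closure {g | ∃ i, i ≠ p ∧ i ≠ q ∧ g = tri p q i}
  have hsx : ∀ x, x ≠ p → swap p x * swap p q ∈ H := by
    intro x hx
    rcases eq_or_ne x q with h | h
    · rw [h, swap_mul_self]; exact one_mem H
    · exact Subgroup.subset_closure ⟨x, hx, h, rfl⟩
  intro g hg
  suffices h : (Perm.sign g = 1 → g ∈ H) ∧ (Perm.sign g = -1 → g * swap p q ∈ H) from
    h.1 (mem_alternatingGroup.1 hg)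
  clear hg
  have key : ∀ (g' : Perm α) (x : α), x ≠ p →
      (Perm.sign g' = 1 → g' ∈ H) ∧ (Perm.sign g' = -1 → g' * swap p q ∈ H) →
      (Perm.sign (g' * swap p x) = 1 → g' * swap p x ∈ H) ∧
      (Perm.sign (g' * swap p x) = -1 → g' * swap p x * swap p q ∈ H) := by
    intro g' x hx ih
    rw [map_mul, sign_swap (Ne.symm hx)]
    rcases Int.units_eq_one_or (Perm.sign g') with h | h
    · refine ⟨by simp [h], fun _ => ?_⟩
      rw [mul_assoc]
      exact mul_mem (ih.1 h) (hsx x hx)
    · refine ⟨fun _ => ?_, by simp [h]⟩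
      have : g' * swap p x = (g' * swap p q) * (swap p x * swap p q)⁻¹ := by
        simp [mul_assoc]
      rw [this]
      exact mul_mem (ih.2 h) (inv_mem (hsx x hx))
  have hmem : g ∈ Subgroup.closure {s : Perm α | ∃ x, x ≠ p ∧ s = swap p x} := by
    rw [closure_star_swaps]; exact Subgroup.mem_top g
  induction hmem using Subgroup.closure_induction_right with
  | one => simp [one_mem]
  | mul_right g' _ _ hs ih =>
    obtain ⟨x, hx, rfl⟩ := hs
    exact key g' x hx ih
  | mul_inv_cancel g' _ _ hs ih =>
    obtain ⟨x, hx, rfl⟩ := hs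
    rw [swap_inv]
    exact key g' x hx ih

/-! ### Centralisers in `A_n` -/

/-- If the centraliser in `S_n` is not inside `A_n`, it is twice as large as that in `A_n`. -/
theorem two_mul_card_centralizer_alt (x : alternatingGroup α)
    (hnle : ¬ Subgroup.centralizer {(x : Perm α)} ≤ alternatingGroup α) :
    2 * Nat.card (Subgroup.centralizer {x}) =
      Nat.card (Subgroup.centralizer {(x : Perm α)}) := by
  set C := Subgroup.centralizer {(x : Perm α)}
  have hrel : (alternatingGroup α).relIndex C = 2 := by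
    have hdvd : (alternatingGroup α).relIndex C ∣ 2 := by
      rcases subsingleton_or_nontrivial α with h | h
      · exact absurd (fun g _ => by rw [Subsingleton.elim g 1]; exact one_mem _) hnle
      · exact alternatingGroup.index_eq_two (α := α) ▸ Subgroup.relIndex_dvd_index_of_normal _ _
    exact ((Nat.dvd_prime Nat.prime_two).1 hdvd).resolve_left
      (fun h => hnle (Subgroup.relIndex_eq_one.1 h))
  have hcard : Nat.card ((alternatingGroup α).subgroupOf C) =
      Nat.card (Subgroup.centralizer {x}) := by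
    refine Nat.card_congr
      { toFun := fun c => ⟨⟨c.1.1, c.2⟩, ?_⟩
        invFun := fun d => ⟨⟨d.1.1, ?_⟩, d.1.2⟩
        left_inv := fun c => rfl
        right_inv := fun d => rfl }
    · rw [Subgroup.mem_centralizer_singleton_iff]
      exact Subtype.ext (Subgroup.mem_centralizer_singleton_iff.1 c.1.2)
    · rw [Subgroup.mem_centralizer_singleton_iff]
      exact congrArg Subtype.val (Subgroup.mem_centralizer_singleton_iff.1 d.2)
  have := Subgroup.card_mul_index ((alternatingGroup α).subgroupOf C)
  rw [hcard, show ((alternatingGroup α).subgroupOf C).index = 2 from hrel] at this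
  omega

end Cfsg.Agent.Lib.Alternating
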