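import Cfsg.Agent.Lib.Alternating.Basic

/-!
# Point stabilisers and Sylow orders in `S_n`, `A_n`

* `altFixingEquiv` : `A(s) ≃* ` the pointwise stabiliser of the complement of `s` in `A(α)`
* `altStabilizerEquiv` : `A_{n-1} ≃* ` a point stabiliser in `A_n`
* `card_sylow_perm`, `card_sylow_alt_odd`, `card_sylow_alt_two`
-/

namespace Cfsg.Agent.Lib.Alternating

open Equiv Equiv.Perm MulAction

variable {α : Type*} [Fintype α] [DecidableEq α]

theorem range_ofSubtype_eq_fixing (s : Finset α) :
    (alternatingGroup.ofSubtype s).range =
      fixingSubgroup (alternatingGroup α) ((s : Set α)ᶜ) := by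
  ext k
  rw [alternatingGroup.mem_range_ofSubtype_iff, mem_fixingSubgroup_iff]
  simp only [Set.mem_compl_iff, Finset.mem_coe, Subgroup.smul_def, Perm.smul_def]
  constructor
  · intro h y hy
    exact notMem_support.1 fun hc => hy (h hc)
  · intro h x hx
    by_contra hc
    exact mem_support.1 hx (h x hc)

/-- `A(s)` as the pointwise stabiliser in `A(α)` of the complement of `s`. -/
noncomputable def altFixingEquiv (s : Finset α) :
    alternatingGroup s ≃* fixingSubgroup (alternatingGroup α) ((s : Set α)ᶜ) :=
  (MonoidHom.ofInjective (alternatingGroup.ofSubtype_injective (s := s))).trans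
    (MulEquiv.subgroupCongr (range_ofSubtype_eq_fixing s))

theorem stabilizer_eq_fixing (a : α) :
    stabilizer (alternatingGroup α) a =
      fixingSubgroup (alternatingGroup α) (((Finset.univ.erase a : Finset α) : Set α)ᶜ) := by
  ext g
  simp [mem_fixingSubgroup_iff, mem_stabilizer_iff]

/-- A point stabiliser in `A_n` is `A_{n-1}`. -/
noncomputable def altStabilizerEquiv (a : α) {m : ℕ} (hm : Fintype.card α = m + 1) :
    alternatingGroup (Fin m) ≃* stabilizer (alternatingGroup α) a :=
  (altEquivOfCard (β := (Finset.univ.erase a : Finset α))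
      (by rw [Fintype.card_fin, Fintype.card_coe, Finset.card_erase_of_mem (Finset.mem_univ a),
        Finset.card_univ, hm]; rfl)).trans
    ((altFixingEquiv _).trans (MulEquiv.subgroupCongr (stabilizer_eq_fixing a).symm))

/-- The order of a Sylow subgroup of the symmetric group. -/
theorem card_sylow_perm (p : ℕ) [Fact p.Prime] (P : Sylow p (Perm α)) :
    Nat.card P = p ^ (Fintype.card α).factorial.factorization p := by
  rw [Sylow.card_eq_multiplicity, Nat.card_perm, Nat.card_eq_fintype_card]

/-- The order of a Sylow subgroup of `A_n`, odd prime. -/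
theorem card_sylow_alt_odd {p : ℕ} [hp : Fact p.Prime] (h2 : p ≠ 2) [Nontrivial α]
    (P : Sylow p (alternatingGroup α)) :
    Nat.card P = p ^ (Fintype.card α).factorial.factorization p := by
  have h := two_mul_nat_card_alternatingGroup (α := α)
  rw [Nat.card_perm, Nat.card_eq_fintype_card (α := α)] at h
  rw [Sylow.card_eq_multiplicity, ← h, Nat.factorization_mul two_ne_zero Nat.card_pos.ne']
  congr 1
  simp [Nat.Prime.factorization Nat.prime_two, Finsupp.single_apply, Ne.symm h2]

/-- The order of a Sylow 2-subgroup of `A_n`. -/
theorem card_sylow_alt_two [Nontrivial α] (P : Sylow 2 (alternatingGroup α)) :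
    2 * Nat.card P = 2 ^ (Fintype.card α).factorial.factorization 2 := by
  have h := two_mul_nat_card_alternatingGroup (α := α)
  rw [Nat.card_perm, Nat.card_eq_fintype_card (α := α)] at h
  rw [Sylow.card_eq_multiplicity, ← h, Nat.factorization_mul two_ne_zero Nat.card_pos.ne']
  simp [Nat.Prime.factorization Nat.prime_two, Finsupp.single_apply, pow_add]

end Cfsg.Agent.Lib.Alternating
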